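import Mathlib.LinearAlgebra.ExteriorPower.Basis
import Mathlib.LinearAlgebra.Matrix.NonsingularInverse
import Mathlib.Tactic

/-!
# The Cauchy-Binet expansion of `det (B * diagonal w * Bᵀ)` over arbitrary finite index types
-/

set_option autoImplicit false

open Finset

namespace K221.CauchyBinet

universe u

/-- Expansion of the determinant of a product of rectangular matrices (Cauchy-Binet).
(Same proof as in `Groth.Agent.S17662`.) -/
theorem cauchyBinet_fin {R : Type u} [CommRing R] {e r : ℕ}
    (A : Matrix (Fin e) (Fin r) R) (N : Matrix (Fin r) (Fin e) R) :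
    (A * N).det = ∑ j : {s : Finset (Fin r) // s.card = e},
      (A.submatrix id (j.1.orderEmbOfFin j.2)).det * (N.submatrix (j.1.orderEmbOfFin j.2) id).det := by
  let z : (Fin r → R) [⋀^Fin e]→ₗ[R] R :=
    (Matrix.detRowAlternating (R := R) (n := Fin e)).compLinearMap N.transpose.mulVecLin
  have hz : ∀ v : Fin e → Fin r → R, z v = (Matrix.of v * N).det := by
    intro v
    change (Matrix.of fun i => N.transpose.mulVecLin (v i)).det = _
    congr 1
    ext i j
    rw [Matrix.mul_apply]
    change ∑ l, N l j * v i l = ∑ l, v i l * N l j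
    exact Finset.sum_congr rfl fun l _ => mul_comm _ _
  have h1 : (A * N).det = exteriorPower.alternatingMapLinearEquiv z (exteriorPower.ιMulti R e (fun i => A i)) := by
    rw [exteriorPower.alternatingMapLinearEquiv_apply_ιMulti, hz]
    rfl
  rw [h1]
  conv_lhs => rw [← ((Pi.basisFun R (Fin r)).exteriorPower e).sum_repr (exteriorPower.ιMulti R e (fun i => A i))]
  rw [map_sum]
  have key : ∀ J : Set.powersetCard (Fin r) e,
      exteriorPower.alternatingMapLinearEquiv z
        (((Pi.basisFun R (Fin r)).exteriorPower e).repr (exteriorPower.ιMulti R e (fun i => A i)) J •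
          (Pi.basisFun R (Fin r)).exteriorPower e J) =
      (A.submatrix id (J.1.orderEmbOfFin J.2)).det * (N.submatrix (J.1.orderEmbOfFin J.2) id).det := by
    intro J
    rw [map_smul, exteriorPower.basis_repr_apply, exteriorPower.ιMultiDual_apply_ιMulti, smul_eq_mul]
    congr 1
    rw [exteriorPower.basis_apply]
    change exteriorPower.alternatingMapLinearEquiv z (exteriorPower.ιMulti R e
      (fun q => Pi.basisFun R (Fin r) (Set.powersetCard.ofFinEmbEquiv.symm J q))) = _
    rw [exteriorPower.alternatingMapLinearEquiv_apply_ιMulti, hz]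
    congr 1
    ext i j
    simp [Matrix.mul_apply, Pi.single_apply]
    rfl
  refine (Finset.sum_congr rfl fun J _ => key J).trans ?_
  let φ : Set.powersetCard (Fin r) e ≃ {s : Finset (Fin r) // s.card = e} :=
    ⟨fun J => ⟨J.1, J.2⟩, fun J => ⟨J.1, J.2⟩, fun _ => rfl, fun _ => rfl⟩
  exact Fintype.sum_equiv φ _ _ fun J => rfl

/-- `det (B * diagonal w * Bᵀ)` is the sum over the sets `T` of columns of the right size of
`∏_{e ∈ T} w e` times the square `D T` of the minor of `B` on the columns `T`. -/
theorem det_mul_diagonal_mul_transpose {R : Type u} [CommRing R] {m n : Type*} [Fintype m] [DecidableEq m]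
    [Fintype n] [DecidableEq n] (B : Matrix m n R) (w : n → R) (D : Finset n → R)
    (hD : ∀ (T : Finset n) (σ : m ≃ T), (B.submatrix id (fun i => (σ i : n))).det ^ 2 = D T) :
    (B * Matrix.diagonal w * B.transpose).det =
      ∑ T ∈ powersetCard (Fintype.card m) (univ : Finset n), (∏ e ∈ T, w e) * D T := by
  classical
  set k := Fintype.card m with hk
  let em : m ≃ Fin k := Fintype.equivFin m
  let en : n ≃ Fin (Fintype.card n) := Fintype.equivFin n
  set B' : Matrix (Fin k) (Fin (Fintype.card n)) R := B.submatrix em.symm en.symm with hB'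
  set w' : Fin (Fintype.card n) → R := w ∘ en.symm with hw'
  have h1 : (B * Matrix.diagonal w * B.transpose).det =
      (B' * Matrix.diagonal w' * B'.transpose).det := by
    rw [← Matrix.det_submatrix_equiv_self em.symm (B * Matrix.diagonal w * B.transpose)]
    congr 1
    rw [hB', hw', ← Matrix.submatrix_diagonal_equiv, Matrix.transpose_submatrix,
      Matrix.submatrix_mul_equiv, Matrix.submatrix_mul_equiv]
  rw [h1, cauchyBinet_fin]
  have key : ∀ j : {s : Finset (Fin (Fintype.card n)) // s.card = k},
      ((B' * Matrix.diagonal w').submatrix id (j.1.orderEmbOfFin j.2)).det *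
        (B'.transpose.submatrix (j.1.orderEmbOfFin j.2) id).det =
      (∏ e ∈ j.1.map en.symm.toEmbedding, w e) * D (j.1.map en.symm.toEmbedding) := by
    intro j
    have h2 : (B' * Matrix.diagonal w').submatrix id (j.1.orderEmbOfFin j.2) =
        B'.submatrix id (j.1.orderEmbOfFin j.2) * Matrix.diagonal (w' ∘ j.1.orderEmbOfFin j.2) := by
      ext a b
      rw [Matrix.submatrix_apply, Matrix.mul_diagonal, Matrix.mul_diagonal, Matrix.submatrix_apply]
      rfl
    rw [h2, Matrix.det_mul, Matrix.det_diagonal, ← Matrix.transpose_submatrix, Matrix.det_transpose]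
    have h3 : ∏ i : Fin k, (w' ∘ j.1.orderEmbOfFin j.2) i = ∏ e ∈ j.1.map en.symm.toEmbedding, w e := by
      rw [Finset.prod_map]
      have h4 : j.1 = (univ : Finset (Fin k)).map (j.1.orderEmbOfFin j.2).toEmbedding := by
        rw [Finset.map_eq_image]
        exact (Finset.image_orderEmbOfFin_univ j.1 j.2).symm
      conv_rhs => rw [h4]
      rw [Finset.prod_map]
      rfl
    rw [h3]
    have h5 : (B'.submatrix id (j.1.orderEmbOfFin j.2)).det ^ 2 = D (j.1.map en.symm.toEmbedding) := by
      let σ : m ≃ (j.1.map en.symm.toEmbedding : Finset n) :=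
        em.trans (((j.1.orderIsoOfFin j.2).toEquiv).trans
          (en.symm.subtypeEquiv (fun a => by simp)))
      rw [← hD _ σ, ← Matrix.det_submatrix_equiv_self em (B'.submatrix id (j.1.orderEmbOfFin j.2))]
      congr 2
      ext a b
      simp [hB', σ]
    rw [← h5]
    ring
  rw [Finset.sum_congr rfl fun j _ => key j]
  refine Finset.sum_bij (fun j _ => j.1.map en.symm.toEmbedding) ?_ ?_ ?_ ?_
  · intro j _
    rw [Finset.mem_powersetCard]
    exact ⟨Finset.subset_univ _, by rw [Finset.card_map]; exact j.2⟩
  · intro a _ b _ h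
    exact Subtype.ext (Finset.map_injective _ h)
  · intro T hT
    refine ⟨⟨T.map en.toEmbedding, by rw [Finset.card_map]; exact (Finset.mem_powersetCard.1 hT).2⟩, Finset.mem_univ _, ?_⟩
    ext x
    simp
  · intro j _
    rfl

end K221.CauchyBinet
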