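import Mathlib.LinearAlgebra.FreeModule.Finite.CardQuotient
import Mathlib.LinearAlgebra.Matrix.ToLin
import Mathlib.LinearAlgebra.Matrix.NonsingularInverse
import Mathlib.LinearAlgebra.Matrix.ToLinearEquiv
import Mathlib.Algebra.GCDMonoid.Finset
import Mathlib.GroupTheory.Index
import Mathlib.Tactic

/-!
# The order of `ker β / im α` for a symmetric integer matrix `α` killing a positive vector `β`
-/

set_option autoImplicit false

open Finset

namespace K221.CompOrd

/-- The cokernel of an integer matrix of nonzero determinant has `|det|` elements. -/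
theorem card_quot_range {ι : Type*} [Fintype ι] [DecidableEq ι] (A : Matrix ι ι ℤ) (hA : A.det ≠ 0) :
    Nat.card ((ι → ℤ) ⧸ LinearMap.range A.mulVecLin) = A.det.natAbs := by
  have hinj : Function.Injective A.mulVecLin := by
    rw [← LinearMap.ker_eq_bot, LinearMap.ker_eq_bot']
    intro x hx
    by_contra h0
    exact hA (Matrix.exists_mulVec_eq_zero_iff.1 ⟨x, h0, hx⟩)
  rw [← Submodule.natAbs_det_equiv (LinearMap.range A.mulVecLin) (LinearEquiv.ofInjective _ hinj)]
  have : ((LinearMap.range A.mulVecLin).subtype ∘ₗ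
      AddMonoidHom.toIntLinearMap
        (LinearEquiv.ofInjective A.mulVecLin hinj : (ι → ℤ) →+ LinearMap.range A.mulVecLin)) = Matrix.toLin' A := by
    apply LinearMap.ext
    intro x
    rfl
  rw [this, LinearMap.det_toLin']

theorem index_range {ι : Type*} [Fintype ι] [DecidableEq ι] (A : Matrix ι ι ℤ) (hA : A.det ≠ 0) :
    (LinearMap.range A.mulVecLin).toAddSubgroup.index = A.det.natAbs :=
  card_quot_range A hA

variable {V : Type*} [Fintype V] [DecidableEq V]

/-- The index of the kernel of a surjection onto `ZMod b`. -/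
theorem index_ker_zmod {G : Type*} [AddGroup G] (b : ℕ) (f : G →+ ZMod b) (hf : Function.Surjective f) :
    f.ker.index = b := by
  rw [AddSubgroup.index_ker, AddMonoidHom.range_eq_top.2 hf, AddSubgroup.card_top, Nat.card_zmod]

theorem card_mul_sq (α : Matrix V V ℤ) (hsymm : α.transpose = α) (β : V → ℤ) (hβ : ∀ v, 0 < β v)
    (hαβ : α.mulVec β = 0) (v : V)
    (hdet : (α.submatrix (Subtype.val : {w // w ≠ v} → V) Subtype.val).det ≠ 0)
    (K : Submodule ℤ (V → ℤ)) (hK : ∀ x, x ∈ K ↔ ∑ w, x w * β w = 0) :
    Nat.card (K ⧸ (LinearMap.range α.mulVecLin).comap K.subtype) * (β v).natAbs ^ 2 =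
      (univ.gcd β).natAbs ^ 2 * (α.submatrix (Subtype.val : {w // w ≠ v} → V) Subtype.val).det.natAbs := by
  classical
  set A : Matrix {w // w ≠ v} {w // w ≠ v} ℤ := α.submatrix Subtype.val Subtype.val with hA
  set m : ℤ := univ.gcd β with hm
  -- the restriction to the coordinates other than `v`
  let π : (V → ℤ) →ₗ[ℤ] ({w // w ≠ v} → ℤ) := LinearMap.funLeft ℤ ℤ Subtype.val
  have hπ : ∀ x (w : {w // w ≠ v}), π x w = x w.1 := fun x w => rfl
  -- Bezout
  have hmdvd : ∀ w, m ∣ β w := fun w => Finset.gcd_dvd (Finset.mem_univ w)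
  have hm0 : m ≠ 0 := by
    intro h
    have := hmdvd v
    rw [h, zero_dvd_iff] at this
    exact (hβ v).ne' this
  choose c hc using hmdvd
  have hcpos : ∀ w, c w ≠ 0 := by
    intro w h
    have := hc w
    rw [h, mul_zero] at this
    exact (hβ w).ne' this
  have hbez : ∃ y : V → ℤ, ∑ w, y w * c w = 1 := by
    obtain ⟨g, hg⟩ := Finset.gcd_eq_sum_mul univ β
    refine ⟨g, mul_left_cancel₀ hm0 ?_⟩
    rw [mul_one, Finset.mul_sum]
    refine Eq.trans (Finset.sum_congr rfl fun w _ => ?_) hg.symm
    rw [hc w]; ring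
  obtain ⟨y, hy⟩ := hbez
  -- the restricted matrix
  let J : AddSubgroup ({w // w ≠ v} → ℤ) := (LinearMap.range A.mulVecLin).toAddSubgroup
  let f : (V → ℤ) →ₗ[ℤ] ({w // w ≠ v} → ℤ) := π ∘ₗ α.mulVecLin
  let I : AddSubgroup ({w // w ≠ v} → ℤ) := (LinearMap.range f).toAddSubgroup
  let g : K →ₗ[ℤ] ({w // w ≠ v} → ℤ) := π ∘ₗ K.subtype
  let K' : AddSubgroup ({w // w ≠ v} → ℤ) := (LinearMap.range g).toAddSubgroup
  -- extension by zero
  let ex : ({w // w ≠ v} → ℤ) → (V → ℤ) := fun x w => if h : w ≠ v then x ⟨w, h⟩ else 0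
  have hex : ∀ x, ex x v = 0 := fun x => by simp [ex]
  have hex' : ∀ x (w : {w // w ≠ v}), ex x w.1 = x w := fun x w => by simp [ex, w.2]
  have hsum : ∀ F : V → ℤ, ∑ w, F w = F v + ∑ w : {w // w ≠ v}, F w.1 := by
    intro F
    rw [← Finset.add_sum_erase univ F (Finset.mem_univ v)]
    congr 1
    exact (Finset.sum_subtype (univ.erase v) (by simp) F)
  have hAex : ∀ x, π (α.mulVecLin (ex x)) = A.mulVecLin x := by
    intro x
    funext w
    rw [hπ]
    change ∑ u, α w.1 u * ex x u = ∑ u : {w // w ≠ v}, A w u * x u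
    rw [hsum, hex, mul_zero, zero_add]
    exact Finset.sum_congr rfl fun u _ => by rw [hex']; rfl
  have hJI : J ≤ I := by
    rintro _ ⟨x, rfl⟩
    exact ⟨ex x, hAex x⟩
  have hαK : ∀ x, α.mulVecLin x ∈ K := by
    intro x
    rw [hK]
    change ∑ w, (∑ u, α w u * x u) * β w = 0
    simp_rw [Finset.sum_mul]
    rw [Finset.sum_comm]
    refine Finset.sum_eq_zero fun u _ => ?_
    have h1 : ∑ w, α u w * β w = 0 := congrFun hαβ u
    have h2 : ∀ w, α w u = α u w := fun w => congrFun (congrFun hsymm u) w
    calc ∑ w, α w u * x u * β w = x u * ∑ w, α u w * β w := by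
          rw [Finset.mul_sum]
          exact Finset.sum_congr rfl fun w _ => by rw [h2 w]; ring
      _ = 0 := by rw [h1, mul_zero]
  have hIK : I ≤ K' := by
    rintro _ ⟨x, rfl⟩
    exact ⟨⟨α.mulVecLin x, hαK x⟩, rfl⟩
  have hginj : Function.Injective g := by
    rw [← LinearMap.ker_eq_bot, LinearMap.ker_eq_bot']
    rintro ⟨x, hx⟩ hx0
    have h1 : ∀ w : {w // w ≠ v}, x w.1 = 0 := fun w => congrFun hx0 w
    have h2 := (hK x).1 hx
    rw [hsum] at h2
    have h3 : ∑ w : {w // w ≠ v}, x w.1 * β w.1 = 0 :=
      Finset.sum_eq_zero fun w _ => by rw [h1 w, zero_mul]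
    rw [h3, add_zero] at h2
    have h4 : x v = 0 := by
      rcases mul_eq_zero.1 h2 with h | h
      · exact h
      · exact absurd h (hβ v).ne'
    ext w
    by_cases hw : w = v
    · subst hw; exact h4
    · exact h1 ⟨w, hw⟩
  -- step 1: the order of the group
  have hstep1 : Nat.card (K ⧸ (LinearMap.range α.mulVecLin).comap K.subtype) = I.relIndex K' := by
    have e1 : Nat.card (K ⧸ (LinearMap.range α.mulVecLin).comap K.subtype) =
        ((LinearMap.range α.mulVecLin).comap K.subtype).toAddSubgroup.index := rfl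
    rw [e1, ← AddSubgroup.relIndex_top_right,
      ← AddSubgroup.relIndex_map_map_of_injective (f := g.toAddMonoidHom) _ _ hginj]
    congr 1
    · ext z
      constructor
      · rintro ⟨⟨a, ha⟩, ⟨b, hb⟩, rfl⟩
        refine ⟨b, ?_⟩
        change π (α.mulVecLin b) = π a
        rw [hb]; rfl
      · rintro ⟨b, rfl⟩
        exact ⟨⟨α.mulVecLin b, hαK b⟩, ⟨b, rfl⟩, rfl⟩
    · ext z
      constructor
      · rintro ⟨a, _, rfl⟩
        exact ⟨a, rfl⟩
      · rintro ⟨a, rfl⟩
        exact ⟨a, trivial, rfl⟩
  -- step 2: the index of `K'`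
  set b : ℕ := (c v).natAbs with hb
  have : NeZero b := ⟨by rw [hb, Int.natAbs_ne_zero]; exact hcpos v⟩
  have hbdvd : ∀ z : ℤ, ((z : ℤ) : ZMod b) = 0 ↔ c v ∣ z := by
    intro z
    rw [ZMod.intCast_zmod_eq_zero_iff_dvd, hb, Int.natCast_natAbs, abs_dvd]
  have hstep2 : K'.index = b := by
    let h : ({w // w ≠ v} → ℤ) →+ ZMod b :=
      { toFun := fun x => ((∑ w : {w // w ≠ v}, x w * c w.1 : ℤ) : ZMod b)
        map_zero' := by simp
        map_add' := by
          intro x y
          rw [← Int.cast_add, ← Finset.sum_add_distrib]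
          congr 1
          exact Finset.sum_congr rfl fun w _ => by rw [Pi.add_apply]; ring }
    have hsurj : Function.Surjective h := by
      intro z
      obtain ⟨z, rfl⟩ := ZMod.intCast_surjective z
      refine ⟨fun w => z * y w.1, ?_⟩
      change ((∑ w : {w // w ≠ v}, z * y w.1 * c w.1 : ℤ) : ZMod b) = z
      rw [← sub_eq_zero, ← Int.cast_sub, hbdvd]
      have h1 := hsum (fun w => y w * c w)
      rw [hy] at h1
      have h2 : ∑ w : {w // w ≠ v}, z * y w.1 * c w.1 = z * ∑ w : {w // w ≠ v}, y w.1 * c w.1 := by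
        rw [Finset.mul_sum]; exact Finset.sum_congr rfl fun w _ => by ring
      rw [h2]
      refine ⟨- (z * y v), ?_⟩
      have h3 : ∑ w : {w // w ≠ v}, y w.1 * c w.1 = 1 - y v * c v := by
        rw [h1]; ring
      rw [h3]; ring
    have hker : h.ker = K' := by
      ext x
      rw [AddMonoidHom.mem_ker]
      change ((∑ w : {w // w ≠ v}, x w * c w.1 : ℤ) : ZMod b) = 0 ↔ _
      rw [hbdvd]
      constructor
      · rintro ⟨t, ht⟩
        refine ⟨⟨fun w => if w = v then - t else ex x w, ?_⟩, ?_⟩
        · rw [hK, hsum]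
          have h1 : ∑ w : {w // w ≠ v}, (if w.1 = v then - t else ex x w.1) * β w.1 =
              m * ∑ w : {w // w ≠ v}, x w * c w.1 := by
            rw [Finset.mul_sum]
            refine Finset.sum_congr rfl fun w _ => ?_
            rw [if_neg w.2, hex', hc w.1]; ring
          rw [h1, ht, if_pos rfl, hc v]
          ring
        · funext w
          change (if w.1 = v then - t else ex x w.1) = x w
          rw [if_neg w.2, hex']
      · rintro ⟨⟨a, ha⟩, rfl⟩
        change c v ∣ ∑ w : {w // w ≠ v}, a w.1 * c w.1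
        rw [hK, hsum] at ha
        refine ⟨- a v, mul_left_cancel₀ hm0 ?_⟩
        rw [Finset.mul_sum]
        have h1 : ∑ w : {w // w ≠ v}, m * (a w.1 * c w.1) = ∑ w : {w // w ≠ v}, a w.1 * β w.1 :=
          Finset.sum_congr rfl fun w _ => by rw [hc w.1]; ring
        rw [h1]
        rw [hc v] at ha
        linear_combination ha
    rw [← hker]
    exact index_ker_zmod b h hsurj
  -- step 3: the index of `J` in `I`
  have hkerα : ∀ x, α.mulVec x = 0 → ∀ w, β v * x w = x v * β w := by
    intro x hx
    have h1 : A.mulVecLin (fun w => β v * x w.1 - x v * β w.1) = 0 := by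
      rw [← hAex]
      have h2 : ex (fun w => β v * x w.1 - x v * β w.1) = β v • x - x v • β := by
        funext w
        by_cases hw : w = v
        · have := hex (fun w => β v * x w.1 - x v * β w.1)
          rw [hw, this]
          simp only [Pi.sub_apply, Pi.smul_apply, smul_eq_mul]; ring
        · have := hex' (fun w => β v * x w.1 - x v * β w.1) ⟨w, hw⟩
          rw [this]
          simp only [Pi.sub_apply, Pi.smul_apply, smul_eq_mul]
      rw [h2]
      have h3 : α.mulVecLin (β v • x - x v • β) = 0 := by
        rw [map_sub, map_smul, map_smul]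
        change β v • α.mulVec x - x v • α.mulVec β = 0
        rw [hx, hαβ, smul_zero, smul_zero, sub_zero]
      rw [h3]; rfl
    have h4 : (fun w : {w // w ≠ v} => β v * x w.1 - x v * β w.1) = 0 := by
      by_contra h0
      exact hdet (Matrix.exists_mulVec_eq_zero_iff.1 ⟨_, h0, h1⟩)
    intro w
    by_cases hw : w = v
    · subst hw; ring
    · have := congrFun h4 ⟨w, hw⟩
      simp only [Pi.zero_apply] at this
      linarith
  have hstep3 : J.relIndex I = b := by
    have e1 : J.relIndex I = (J.comap f.toAddMonoidHom).index := by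
      rw [AddSubgroup.index_comap]; rfl
    rw [e1]
    let h : (V → ℤ) →+ ZMod b :=
      { toFun := fun x => ((x v : ℤ) : ZMod b)
        map_zero' := by simp
        map_add' := by
          intro x y
          rw [← Int.cast_add]; rfl }
    have hsurj : Function.Surjective h := by
      intro z
      obtain ⟨z, rfl⟩ := ZMod.intCast_surjective z
      exact ⟨fun _ => z, rfl⟩
    have hker : h.ker = J.comap f.toAddMonoidHom := by
      ext x
      rw [AddMonoidHom.mem_ker]
      change ((x v : ℤ) : ZMod b) = 0 ↔ _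
      rw [hbdvd]
      have hαc : α.mulVec c = 0 := by
        have h1 : α.mulVec β = m • α.mulVec c := by
          rw [← Matrix.mulVec_smul]
          congr 1
          funext w
          rw [hc w]; rfl
        rw [hαβ] at h1
        funext w
        have h2 : (0 : ℤ) = m * α.mulVec c w := congrFun h1 w
        rcases mul_eq_zero.1 h2.symm with h | h
        · exact absurd h hm0
        · exact h
      constructor
      · rintro ⟨t, ht⟩
        refine ⟨fun w => x w.1 - t * c w.1, ?_⟩
        rw [← hAex]
        change π (α.mulVec _) = π (α.mulVec x)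
        congr 1
        have h2 : ex (fun w => x w.1 - t * c w.1) = x - t • c := by
          funext w
          by_cases hw : w = v
          · have := hex (fun w => x w.1 - t * c w.1)
            rw [hw, this]
            simp only [Pi.sub_apply, Pi.smul_apply, smul_eq_mul]; rw [ht]; ring
          · have := hex' (fun w => x w.1 - t * c w.1) ⟨w, hw⟩
            rw [this]
            simp only [Pi.sub_apply, Pi.smul_apply, smul_eq_mul]
        rw [h2, Matrix.mulVec_sub, Matrix.mulVec_smul, hαc, smul_zero, sub_zero]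
      · rintro ⟨z, hz⟩
        have hz' : π (α.mulVecLin (x - ex z)) = 0 := by
          rw [map_sub, map_sub, hAex]
          exact sub_eq_zero.2 hz.symm
        have hz2 : α.mulVec (x - ex z) = 0 := by
          have h5 : (⟨α.mulVecLin (x - ex z), hαK _⟩ : K) = 0 := hginj (by rw [map_zero]; exact hz')
          exact congrArg Subtype.val h5
        have h6 := hkerα _ hz2
        -- β v * (x - ex z) w = x v * β w
        have h7 : (x - ex z) v = x v := by
          rw [Pi.sub_apply, hex, sub_zero]
        rw [h7] at h6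
        have h8 : ∀ w, c v * (x - ex z) w = x v * c w := by
          intro w
          refine mul_left_cancel₀ hm0 ?_
          have := h6 w
          rw [hc v, hc w] at this
          linear_combination this
        have h9 : x v = c v * ∑ w, y w * (x - ex z) w := by
          calc x v = x v * ∑ w, y w * c w := by rw [hy, mul_one]
            _ = _ := by
              rw [Finset.mul_sum, Finset.mul_sum]
              refine Finset.sum_congr rfl fun w _ => ?_
              have := h8 w
              linear_combination (-y w) * this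
        exact ⟨_, h9⟩
    rw [← hker]
    exact index_ker_zmod b h hsurj
  have hfin : b * (I.relIndex K' * b) = A.det.natAbs := by
    rw [← index_range A hdet]
    change _ = J.index
    rw [← AddSubgroup.relIndex_mul_index hJI, ← AddSubgroup.relIndex_mul_index hIK, hstep2, hstep3]
  rw [hstep1, ← hfin]
  have : (β v).natAbs = m.natAbs * b := by
    rw [hc v, Int.natAbs_mul]
  rw [this]
  ring

end K221.CompOrd
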