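import Groth.Prelude.Def_W4c2conddiscmodels
import Groth.Agent.LabGraph.K794.Basic
import Groth.Agent.LabGraph.K221.CauchyBinet
import Groth.Agent.LabGraph.K221.CompOrd

/-!
# The weighted matrix-tree theorem for finite multigraphs (`LabGraph` encoding)
-/

set_option autoImplicit false
set_option linter.unusedSectionVars false

universe u

open Finset LabGraph K794.Basic

namespace K221.MTree

variable {V E : Type u} [Fintype V] [Fintype E] [DecidableEq V] [DecidableEq E]

/-- Entry of the oriented incidence matrix. -/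
def inc (ends : E → V × V) (v : V) (e : E) : ℤ :=
  (if (ends e).2 = v then 1 else 0) - (if (ends e).1 = v then 1 else 0)

/-- The oriented incidence matrix with the row of `v0` removed. -/
def redInc (ends : E → V × V) (v0 : V) : Matrix {v // v ≠ v0} E ℤ := fun v e => inc ends v.1 e

theorem sum_inc_mul (ends : E → V × V) (e : E) (φ : V → ℤ) :
    ∑ v, inc ends v e * φ v = φ (ends e).2 - φ (ends e).1 := by
  unfold inc
  simp_rw [sub_mul, Finset.sum_sub_distrib, ite_mul, one_mul, zero_mul]
  simp

theorem sum_eq_add (v0 : V) (F : V → ℤ) : ∑ w, F w = F v0 + ∑ w : {w // w ≠ v0}, F w.1 := by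
  rw [← Finset.add_sum_erase univ F (Finset.mem_univ v0)]
  congr 1
  exact (Finset.sum_subtype (univ.erase v0) (by simp) F)

/-- `inc` against a function on the vertices other than `v0`. -/
theorem sum_inc_sub (ends : E → V × V) (v0 : V) (e : E) (φ : V → ℤ) :
    ∑ v : {v // v ≠ v0}, inc ends v.1 e * (φ v.1 - φ v0) = φ (ends e).2 - φ (ends e).1 := by
  have h := sum_inc_mul ends e (fun v => φ v - φ v0)
  rw [sum_eq_add v0, sub_self, mul_zero, zero_add] at h
  rw [h]; ring

/-! ### Spanning trees in terms of reachability -/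

omit [Fintype V] [Fintype E] in
theorem endCount_map (ends : E → V × V) (T : Finset E) (C : Finset T) (v : V) :
    endCount ends (C.map (Function.Embedding.subtype _)) v = endCount (fun e : T => ends e.1) C v := by
  unfold endCount
  rw [Finset.sum_map]
  rfl

theorem isSpanningTree_iff (ends : E → V × V) (T : Finset E) :
    IsSpanningTree ends T ↔ (Nonempty V ∧ ∀ v w : V, Reach ends T v w) ∧ ∀ C ⊆ T, ¬ IsCircuit ends C := by
  unfold IsSpanningTree DualGr.IsTree DualGr.IsForest Connected Reach
  have hadj : Adj (fun e : T => ends e.1) =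
      (fun a b => ∃ e ∈ (T : Set E), ends e = (a, b) ∨ ends e = (b, a)) := by
    funext a b
    apply propext
    constructor
    · rintro ⟨e, h⟩
      exact ⟨e.1, e.2, h⟩
    · rintro ⟨e, he, h⟩
      exact ⟨⟨e, he⟩, h⟩
  rw [hadj]
  refine and_congr Iff.rfl ?_
  have hpull : ∀ C ⊆ T, (univ.filter fun e : T => e.1 ∈ C).map (Function.Embedding.subtype _) = C := by
    intro C hC
    ext e
    simp only [Finset.mem_map, Finset.mem_filter, Finset.mem_univ, true_and, Function.Embedding.subtype_apply]
    constructor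
    · rintro ⟨a, ha, rfl⟩; exact ha
    · intro he; exact ⟨⟨e, hC he⟩, he, rfl⟩
  constructor
  · intro h C hC hcirc
    refine h (univ.filter fun e : T => e.1 ∈ C) ⟨?_, ?_, ?_⟩
    · obtain ⟨e, he⟩ := hcirc.1
      exact ⟨⟨e, hC he⟩, by simpa using he⟩
    · intro v
      rw [← endCount_map, hpull C hC]
      exact hcirc.2.1 v
    · intro C' hC' hne
      have h1 : C'.map (Function.Embedding.subtype _) ⊂ C := by
        rw [← hpull C hC]
        exact Finset.map_ssubset_map.2 hC'
      obtain ⟨v, hv⟩ := hcirc.2.2 _ h1 (hne.map)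
      exact ⟨v, by rwa [endCount_map] at hv⟩
  · intro h C hcirc
    refine h (C.map (Function.Embedding.subtype _)) ?_ ⟨hcirc.1.map, ?_, ?_⟩
    · intro e he
      obtain ⟨a, _, rfl⟩ := Finset.mem_map.1 he
      exact a.2
    · intro v
      rw [endCount_map]
      exact hcirc.2.1 v
    · intro C' hC' hne
      have hC'T : C' ⊆ T := by
        intro e he
        obtain ⟨a, _, rfl⟩ := Finset.mem_map.1 (hC'.subset he)
        exact a.2
      have h1 := hpull C' hC'T
      have h2 : (univ.filter fun e : T => e.1 ∈ C') ⊂ C := by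
        rw [← h1] at hC'
        exact Finset.map_ssubset_map.1 hC'
      obtain ⟨v, hv⟩ := hcirc.2.2 _ h2 (by
        obtain ⟨e, he⟩ := hne
        exact ⟨⟨e, hC'T he⟩, by simpa using he⟩)
      exact ⟨v, by rwa [← endCount_map, h1] at hv⟩

/-! ### Minors of the incidence matrix -/

theorem det_sq_of_tree (ends : E → V × V) (v0 : V) (T : Finset E) (σ : {v // v ≠ v0} ≃ T)
    (hT : IsSpanningTree ends T) :
    ((redInc ends v0).submatrix id (fun i => (σ i : E))).det ^ 2 = 1 := by
  rw [isSpanningTree_iff] at hT
  set M := (redInc ends v0).submatrix id (fun i => (σ i : E)) with hM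
  have hsurj : Function.Surjective M.transpose.mulVec := by
    intro x
    obtain ⟨φ, hφ⟩ := exists_potential_of_forest ends T hT.2 (fun e => if h : e ∈ T then x (σ.symm ⟨e, h⟩) else 0)
    refine ⟨fun v => φ v.1 - φ v0, ?_⟩
    funext i
    have h1 := hφ (σ i) (σ i).2
    rw [dif_pos (σ i).2] at h1
    simp only [Subtype.coe_eta, Equiv.symm_apply_apply] at h1
    rw [← h1, ← sum_inc_sub ends v0]
    rfl
  have hunit : IsUnit M.transpose := Matrix.mulVec_surjective_iff_isUnit.1 hsurj
  rw [Matrix.isUnit_iff_isUnit_det, Matrix.det_transpose, Int.isUnit_iff] at hunit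
  rcases hunit with h | h <;> rw [h] <;> norm_num

theorem det_sq_of_not_tree (ends : E → V × V) (v0 : V) (T : Finset E) (σ : {v // v ≠ v0} ≃ T)
    (hT : ¬ IsSpanningTree ends T) :
    ((redInc ends v0).submatrix id (fun i => (σ i : E))).det ^ 2 = 0 := by
  classical
  rw [isSpanningTree_iff] at hT
  set M := (redInc ends v0).submatrix id (fun i => (σ i : E)) with hM
  suffices M.det = 0 by rw [this]; norm_num
  by_cases hconn : ∀ v, Reach ends T v0 v
  · have hc : Nonempty V ∧ ∀ v w : V, Reach ends T v w := ⟨⟨v0⟩, fun v w => (hconn v).symm.trans (hconn w)⟩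
    have h1 : ∃ C ⊆ T, IsCircuit ends C := by
      by_contra hcon
      push Not at hcon
      exact hT ⟨hc, hcon⟩
    obtain ⟨C, hCT, hC⟩ := h1
    obtain ⟨e, he⟩ := hC.1
    obtain ⟨γ, hγ1, hγ2, hγ3⟩ := exists_cycle_of_circuit hC he
    rw [← Matrix.exists_mulVec_eq_zero_iff]
    refine ⟨fun i => γ (σ i), ?_, ?_⟩
    · intro h
      have := congrFun h (σ.symm ⟨e, hCT he⟩)
      simp only [Equiv.apply_symm_apply, Pi.zero_apply] at this
      rw [hγ2] at this
      exact one_ne_zero this
    · funext v
      rw [Pi.zero_apply, ← hγ3 v.1]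
      change ∑ i, inc ends v.1 (σ i) * γ (σ i) = _
      have h2 : ∑ i, inc ends v.1 (σ i) * γ (σ i) = ∑ e : T, inc ends v.1 e.1 * γ e.1 :=
        Fintype.sum_equiv σ _ _ fun i => rfl
      rw [h2, Finset.sum_coe_sort T (fun e => inc ends v.1 e * γ e)]
      unfold boundary
      have h3 : ∑ e ∈ T, inc ends v.1 e * γ e = ∑ e, inc ends v.1 e * γ e := by
        refine Finset.sum_subset (Finset.subset_univ _) fun x _ hx => ?_
        rw [hγ1 x (fun h => hx (hCT h)), mul_zero]
      rw [h3]
      refine Finset.sum_congr rfl fun x _ => ?_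
      unfold inc
      split_ifs <;> ring
  · push Not at hconn
    obtain ⟨v, hv⟩ := hconn
    rw [← Matrix.det_transpose, ← Matrix.exists_mulVec_eq_zero_iff]
    let φ : V → ℤ := fun w => if Reach ends T v0 w then 0 else 1
    have hφ0 : φ v0 = 0 := if_pos (Reach.refl _ _ _)
    have hvv0 : v ≠ v0 := by
      rintro rfl
      exact hv (Reach.refl _ _ _)
    refine ⟨fun w => φ w.1 - φ v0, ?_, ?_⟩
    · intro h
      have := congrFun h ⟨v, hvv0⟩
      simp only [hφ0, sub_zero, Pi.zero_apply] at this
      have h1 : φ v = 1 := if_neg hv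
      rw [h1] at this
      exact one_ne_zero this
    · funext i
      rw [Pi.zero_apply]
      have h1 := sum_inc_sub ends v0 (σ i) φ
      have h2 : Reach ends T (ends (σ i)).1 (ends (σ i)).2 := reach_edge (σ i).2
      have h3 : φ (ends (σ i)).2 - φ (ends (σ i)).1 = 0 := by
        have : Reach ends T v0 (ends (σ i)).2 ↔ Reach ends T v0 (ends (σ i)).1 :=
          ⟨fun h => h.trans h2.symm, fun h => h.trans h2⟩
        by_cases h : Reach ends T v0 (ends (σ i)).1
        · simp only [φ, if_pos h, if_pos (this.2 h), sub_self]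
        · simp only [φ, if_neg h, if_neg (fun h' => h (this.1 h')), sub_self]
      rw [← h3, ← h1]
      rfl

theorem card_of_tree (ends : E → V × V) (v0 : V) (T : Finset E) (hT : IsSpanningTree ends T) :
    T.card = Fintype.card {v // v ≠ v0} := by
  rw [isSpanningTree_iff] at hT
  let N : Matrix T {v // v ≠ v0} ℤ := fun e v => inc ends v.1 e.1
  have hsurj : Function.Surjective N.mulVecLin := by
    intro x
    obtain ⟨φ, hφ⟩ := exists_potential_of_forest ends T hT.2 (fun e => if h : e ∈ T then x ⟨e, h⟩ else 0)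
    refine ⟨fun v => φ v.1 - φ v0, ?_⟩
    funext i
    have h1 := hφ i i.2
    rw [dif_pos i.2] at h1
    simp only [Subtype.coe_eta] at h1
    rw [← h1, ← sum_inc_sub ends v0]
    rfl
  have hinj : Function.Injective N.mulVecLin := by
    rw [← LinearMap.ker_eq_bot, LinearMap.ker_eq_bot']
    intro y hy
    let φ : V → ℤ := fun v => if h : v ≠ v0 then y ⟨v, h⟩ else 0
    have hφ0 : φ v0 = 0 := by simp [φ]
    have hφ : ∀ v : {v // v ≠ v0}, φ v.1 = y v := fun v => by simp [φ, v.2]
    have h1 : ∀ e ∈ (T : Set E), φ (ends e).1 = φ (ends e).2 := by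
      intro e he
      have h2 := sum_inc_sub ends v0 e φ
      have h3 : ∑ v : {v // v ≠ v0}, inc ends v.1 e * (φ v.1 - φ v0) = 0 := by
        have := congrFun hy ⟨e, he⟩
        rw [Pi.zero_apply] at this
        rw [← this]
        refine Finset.sum_congr rfl fun v _ => ?_
        rw [hφ0, sub_zero, hφ]
      rw [h3] at h2
      linarith
    funext v
    rw [← hφ v, (hT.1.2 v.1 v0).eq_of_const h1, hφ0]
    rfl
  have e := LinearEquiv.ofBijective N.mulVecLin ⟨hinj, hsurj⟩
  have := card_eq_of_linearEquiv ℤ e
  rw [this, Fintype.card_coe]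

open Classical in
/-- **Weighted matrix-tree theorem**: the reduced weighted Laplacian `B * diagonal w * Bᵀ` has determinant
`Σ_T ∏_{e ∈ T} w e`, `T` running over the spanning trees. -/
theorem matrixTree (ends : E → V × V) (v0 : V) (w : E → ℤ) :
    (redInc ends v0 * Matrix.diagonal w * (redInc ends v0).transpose).det =
      ∑ T ∈ univ.powerset.filter (fun T : Finset E => IsSpanningTree ends T), ∏ e ∈ T, w e := by
  rw [CauchyBinet.det_mul_diagonal_mul_transpose (redInc ends v0) w
    (fun T => if IsSpanningTree ends T then 1 else 0)]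
  · rw [Finset.sum_filter]
    refine (Finset.sum_subset (fun T _ => Finset.mem_powerset.2 (Finset.subset_univ _)) fun T _ hT => ?_).trans ?_
    · have : ¬ IsSpanningTree ends T := fun h => hT (Finset.mem_powersetCard.2 ⟨Finset.subset_univ _, card_of_tree ends v0 T h⟩)
      rw [if_neg this, mul_zero]
    · refine Finset.sum_congr rfl fun T _ => ?_
      split_ifs <;> simp
  · intro T σ
    split_ifs with h
    · exact det_sq_of_tree ends v0 T σ h
    · exact det_sq_of_not_tree ends v0 T σ h

end K221.MTree
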