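import Groth.Agent.LabGraph.K221.MTree

/-!
# Multiplicity functions: the Laplacian with edge weights `β_i β_j`, tree degrees
-/

set_option autoImplicit false
set_option linter.unusedSectionVars false

universe u

open Finset LabGraph K794.Basic K221.MTree

namespace K221.Weighted

variable {V E : Type u} [Fintype V] [Fintype E] [DecidableEq V] [DecidableEq E]

theorem edgeMult_comm (ends : E → V × V) (v w : V) : edgeMult ends v w = edgeMult ends w v := by
  unfold edgeMult
  congr 1
  ext e
  simp only [Finset.mem_filter, Finset.mem_univ, true_and]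
  exact or_comm

theorem mfMatrix_transpose (ends : E → V × V) (β : V → ℤ) :
    (mfMatrix ends β).transpose = mfMatrix ends β := by
  ext v w
  rw [Matrix.transpose_apply]
  unfold mfMatrix
  by_cases h : v = w
  · subst h; rfl
  · rw [if_neg h, if_neg (Ne.symm h), edgeMult_comm]

theorem mfMatrix_mulVec (ends : E → V × V) (β : V → ℤ) (hβ : IsMultFn ends β) :
    (mfMatrix ends β).mulVec β = 0 := by
  funext v
  rw [Pi.zero_apply]
  change ∑ w, mfMatrix ends β v w * β w = 0
  rw [← Finset.add_sum_erase univ _ (Finset.mem_univ v)]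
  have h1 : mfMatrix ends β v v = (-(∑ u ∈ Finset.univ.erase v, β u * (edgeMult ends v u : ℤ))) / β v := by
    unfold mfMatrix
    rw [if_pos rfl]
  have h2 : mfMatrix ends β v v * β v = -(∑ u ∈ Finset.univ.erase v, β u * (edgeMult ends v u : ℤ)) := by
    rw [h1]
    exact Int.ediv_mul_cancel ((hβ v).2.neg_right)
  rw [h2]
  have h3 : ∑ w ∈ univ.erase v, mfMatrix ends β v w * β w =
      ∑ u ∈ Finset.univ.erase v, β u * (edgeMult ends v u : ℤ) := by
    refine Finset.sum_congr rfl fun w hw => ?_
    have : v ≠ w := (Finset.ne_of_mem_erase hw).symm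
    unfold mfMatrix
    rw [if_neg this]; ring
  rw [h3]; ring

/-- The edge weights `β_i β_j`. -/
def wt (ends : E → V × V) (β : V → ℤ) (e : E) : ℤ := β (ends e).1 * β (ends e).2

theorem lap_offdiag (ends : E → V × V) (β : V → ℤ) {u w : V} (h : u ≠ w) :
    ∑ e, inc ends u e * wt ends β e * inc ends w e = - (β u * edgeMult ends u w * β w) := by
  have h1 : ∀ e, inc ends u e * wt ends β e * inc ends w e =
      - (if ends e = (u, w) ∨ ends e = (w, u) then β u * β w else 0) := by
    intro e
    unfold inc wt
    rcases he : ends e with ⟨a, b⟩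
    simp only [Prod.mk.injEq]
    by_cases h1 : a = u <;> by_cases h2 : b = u <;> by_cases h3 : a = w <;> by_cases h4 : b = w <;>
      simp_all <;> ring
  rw [Finset.sum_congr rfl fun e _ => h1 e, Finset.sum_neg_distrib]
  congr 1
  rw [← Finset.sum_filter, Finset.sum_const]
  unfold edgeMult
  rw [nsmul_eq_mul]
  ring

theorem lap_entry (ends : E → V × V) (β : V → ℤ) (hβ : IsMultFn ends β) (u w : V) :
    ∑ e, inc ends u e * wt ends β e * inc ends w e = β u * (-(mfMatrix ends β u w)) * β w := by
  by_cases h : u = w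
  · subst h
    have h1 : ∑ w, ∑ e, inc ends u e * wt ends β e * inc ends w e = 0 := by
      rw [Finset.sum_comm]
      refine Finset.sum_eq_zero fun e _ => ?_
      rw [← Finset.mul_sum]
      have := sum_inc_mul ends e (fun _ => 1)
      simp only [mul_one, sub_self] at this
      rw [this, mul_zero]
    have h2 : ∑ w, β u * (-(mfMatrix ends β u w)) * β w = 0 := by
      have h3 := congrFun (mfMatrix_mulVec ends β hβ) u
      rw [Pi.zero_apply] at h3
      change ∑ w, mfMatrix ends β u w * β w = 0 at h3
      calc ∑ w, β u * (-(mfMatrix ends β u w)) * β w = - β u * ∑ w, mfMatrix ends β u w * β w := by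
            rw [Finset.mul_sum]
            exact Finset.sum_congr rfl fun w _ => by ring
        _ = 0 := by rw [h3, mul_zero]
    rw [← Finset.add_sum_erase univ _ (Finset.mem_univ u)] at h1 h2
    have h4 : ∑ w ∈ univ.erase u, ∑ e, inc ends u e * wt ends β e * inc ends w e =
        ∑ w ∈ univ.erase u, β u * (-(mfMatrix ends β u w)) * β w := by
      refine Finset.sum_congr rfl fun w hw => ?_
      have : u ≠ w := (Finset.ne_of_mem_erase hw).symm
      rw [lap_offdiag ends β this]
      unfold mfMatrix
      rw [if_neg this]; ring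
    rw [h4] at h1
    linarith
  · rw [lap_offdiag ends β h]
    unfold mfMatrix
    rw [if_neg h]; ring

theorem redLap_eq (ends : E → V × V) (β : V → ℤ) (hβ : IsMultFn ends β) (v0 : V) :
    redInc ends v0 * Matrix.diagonal (wt ends β) * (redInc ends v0).transpose =
      Matrix.diagonal (fun v : {v // v ≠ v0} => β v.1) *
        (-(mfMatrix ends β).submatrix (Subtype.val : {v // v ≠ v0} → V) Subtype.val) *
        Matrix.diagonal (fun v : {v // v ≠ v0} => β v.1) := by
  ext u w
  rw [Matrix.mul_diagonal, Matrix.diagonal_mul, Matrix.mul_apply]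
  simp_rw [Matrix.mul_diagonal]
  exact lap_entry ends β hβ u.1 w.1

open Classical in
/-- `(∏_{v ≠ v0} β_v)² · det (-α with the row and column of v0 removed) = Σ_T ∏_{e ∈ T} β_i β_j`. -/
theorem det_eq_sum (ends : E → V × V) (β : V → ℤ) (hβ : IsMultFn ends β) (v0 : V) :
    (∏ v : {v // v ≠ v0}, β v.1) ^ 2 *
      (-(mfMatrix ends β).submatrix (Subtype.val : {v // v ≠ v0} → V) Subtype.val).det =
    ∑ T ∈ univ.powerset.filter (fun T : Finset E => IsSpanningTree ends T), ∏ e ∈ T, wt ends β e := by
  rw [← matrixTree ends v0 (wt ends β), redLap_eq ends β hβ v0, Matrix.det_mul, Matrix.det_mul,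
    Matrix.det_diagonal]
  ring

/-! ### Degrees in a spanning tree -/

theorem nbrCount_eq_endCount (ends : E → V × V) (T : Finset E) (hT : ∀ C ⊆ T, ¬ IsCircuit ends C) (v : V) :
    nbrCount ends T v = endCount ends T v := by
  classical
  have hloop : ∀ e ∈ T, (ends e).1 ≠ (ends e).2 := by
    intro e he h
    have := not_reach_of_forest hT he
    rw [h] at this
    exact this (Reach.refl _ _ _)
  have hpar : ∀ e ∈ T, ∀ e' ∈ T, ((ends e).1 = (ends e').1 ∧ (ends e).2 = (ends e').2) ∨
      ((ends e).1 = (ends e').2 ∧ (ends e).2 = (ends e').1) → e = e' := by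
    intro e he e' he' h
    by_contra hne
    refine not_reach_of_forest hT he ?_
    have hmem : e' ∈ ((T.erase e : Finset E) : Set E) := by
      simp only [Finset.coe_erase, Set.mem_sdiff, Finset.mem_coe, Set.mem_singleton_iff]
      exact ⟨he', fun h => hne h.symm⟩
    have h1 := reach_edge (ends := ends) hmem
    rcases h with ⟨h2, h3⟩ | ⟨h2, h3⟩
    · rw [h2, h3]; exact h1
    · rw [h2, h3]; exact h1.symm
  have h1 : endCount ends T v = (T.filter fun e => (ends e).1 = v ∨ (ends e).2 = v).card := by
    unfold endCount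
    rw [Finset.card_filter]
    refine Finset.sum_congr rfl fun e he => ?_
    have := hloop e he
    by_cases h1 : (ends e).1 = v <;> by_cases h2 : (ends e).2 = v
    · exact absurd (h1.trans h2.symm) this
    · simp [h1, h2]
    · simp [h1, h2]
    · simp [h1, h2]
  rw [h1]
  unfold nbrCount
  symm
  refine Finset.card_bij (fun e _ => if (ends e).1 = v then (ends e).2 else (ends e).1) ?_ ?_ ?_
  · intro e he
    rw [Finset.mem_filter] at he ⊢
    obtain ⟨heT, he⟩ := he
    have hl := hloop e heT
    refine ⟨Finset.mem_univ _, ?_⟩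
    by_cases h1 : (ends e).1 = v
    · rw [if_pos h1]
      exact ⟨fun h => hl (h1.trans h.symm), e, heT, Or.inl (Prod.ext h1 rfl)⟩
    · rw [if_neg h1]
      have h2 := he.resolve_left h1
      exact ⟨h1, e, heT, Or.inr (Prod.ext rfl h2)⟩
  · intro e he e' he' h
    rw [Finset.mem_filter] at he he'
    refine hpar e he.1 e' he'.1 ?_
    by_cases h1 : (ends e).1 = v <;> by_cases h2 : (ends e').1 = v
    · simp only [h1, h2, if_true] at h
      exact Or.inl ⟨h1.trans h2.symm, h⟩
    · simp only [h1, h2, if_true, if_false] at h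
      have h3 := he'.2.resolve_left h2
      exact Or.inr ⟨h1.trans h3.symm, h⟩
    · simp only [h1, h2, if_true, if_false] at h
      have h3 := he.2.resolve_left h1
      exact Or.inr ⟨h, h3.trans h2.symm⟩
    · simp only [h1, h2, if_false] at h
      have h3 := he.2.resolve_left h1
      have h4 := he'.2.resolve_left h2
      exact Or.inl ⟨h, h3.trans h4.symm⟩
  · intro w hw
    rw [Finset.mem_filter] at hw
    obtain ⟨-, hwv, e, heT, h | h⟩ := hw
    · refine ⟨e, Finset.mem_filter.2 ⟨heT, Or.inl (by rw [h])⟩, ?_⟩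
      rw [h]; simp
    · refine ⟨e, Finset.mem_filter.2 ⟨heT, Or.inr (by rw [h])⟩, ?_⟩
      rw [h]; simp [hwv]

theorem prod_wt (ends : E → V × V) (β : V → ℤ) (T : Finset E) :
    ∏ e ∈ T, wt ends β e = ∏ v, β v ^ endCount ends T v := by
  unfold endCount
  simp_rw [← Finset.prod_pow_eq_pow_sum]
  rw [Finset.prod_comm]
  refine Finset.prod_congr rfl fun e _ => ?_
  simp_rw [pow_add, Finset.prod_mul_distrib]
  unfold wt
  congr 1
  · rw [Finset.prod_eq_single (ends e).1]
    · simp
    · intro b _ hb
      rw [if_neg (Ne.symm hb), pow_zero]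
    · simp
  · rw [Finset.prod_eq_single (ends e).2]
    · simp
    · intro b _ hb
      rw [if_neg (Ne.symm hb), pow_zero]
    · simp

/-- A connected graph has a spanning tree. -/
theorem exists_spanningTree (ends : E → V × V) (hG : Connected ends) : ∃ T : Finset E, IsSpanningTree ends T := by
  obtain ⟨T, -, h1, h2⟩ := exists_minimal_spanning ends univ (fun v w => by
    have := hG.reach v w
    simpa using this)
  exact ⟨T, (isSpanningTree_iff ends T).2 ⟨⟨hG.1, h1⟩, h2⟩⟩

end K221.Weighted
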